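import Mathlib.CategoryTheory.Adjunction.FullyFaithful
import Mathlib.CategoryTheory.Limits.Preserves.Shapes.Pullbacks
import Mathlib.CategoryTheory.Limits.Shapes.Pullback.HasPullback
import Mathlib.CategoryTheory.Limits.Shapes.Pullback.IsPullback.Basic

/-!
# Glueing along a modification square, abstractly
-/

set_option autoImplicit false
set_option linter.all false

universe v

open CategoryTheory CategoryTheory.Limits

noncomputable section

namespace GrothLib.ModSq18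

theorem via_app {C C₁ C₂ D : Type*} [Category C] [Category C₁] [Category C₂] [Category D]
    {pf : C ⥤ C₁} {pj : C₁ ⥤ D} {pi : C ⥤ C₂} {pg : C₂ ⥤ D} {pc pc' pb : C ⥤ D}
    (a : pc ≅ pf ⋙ pj) (b : pc ≅ pb) (d : pc' ≅ pi ⋙ pg) (c : pc' ≅ pb) (F : C) :
    (Iso.trans (X := pj.obj (pf.obj F)) (Y := pb.obj F) (Z := pg.obj (pi.obj F)) ((a.symm ≪≫ b).app F)
      (Iso.symm (X := pg.obj (pi.obj F)) (Y := pb.obj F) ((d.symm ≪≫ c).app F))).hom =
      ((a.symm ≪≫ b) ≪≫ (d.symm ≪≫ c).symm).hom.app F :=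
  rfl

section BC

universe w₁ w₂ w₃ w₄

variable {S : Type w₁} {C : Type w₂} {T : Type w₃} {Y : Type w₄} [Category.{v} S] [Category.{v} C]
  [Category.{v} T] [Category.{v} Y]
variable {fS : S ⥤ C} {fP : C ⥤ S} (Af : fS ⊣ fP) {eS : T ⥤ Y} {eP : Y ⥤ T} (Ae : eS ⊣ eP)
  {gP : T ⥤ S} {hP : Y ⥤ C} {P Q : Y ⥤ S} (a : eP ⋙ gP ≅ P) (b : P ≅ Q) (c : hP ⋙ fP ≅ Q)

/-- An abstract base change transformation. -/
def bcTrans : gP ⋙ fS ⟶ eS ⋙ hP where
  app G := (Af.homEquiv _ _).symm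
    (gP.map (Ae.unit.app G) ≫ a.hom.app _ ≫ b.hom.app _ ≫ c.inv.app _)
  naturality G G' φ := by
    apply (Af.homEquiv _ _).injective
    rw [Functor.comp_map, Functor.comp_map, Adjunction.homEquiv_naturality_left,
      Adjunction.homEquiv_naturality_right]
    simp only [Functor.comp_obj, Equiv.apply_symm_apply]
    rw [← Functor.map_comp_assoc, show φ ≫ Ae.unit.app G' = Ae.unit.app G ≫ eP.map (eS.map φ) from
      Ae.unit.naturality φ]
    simp only [Functor.map_comp, Category.assoc]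
    congr 1
    rw [show ∀ {Z : S} (k : P.obj (eS.obj G') ⟶ Z), gP.map (eP.map (eS.map φ)) ≫ a.hom.app _ ≫ k =
      a.hom.app _ ≫ P.map (eS.map φ) ≫ k from fun k => a.hom.naturality_assoc (eS.map φ) k]
    rw [b.hom.naturality_assoc, c.inv.naturality]
    rfl

end BC

universe w₁ w₂ w₃ w₄ w₅ w₆

variable {X : Type w₁} {X' : Type w₂} {Z : Type w₃} {E : Type w₄} [Category.{v} X] [Category.{v} X']
  [Category.{v} Z] [Category.{v} E] [HasPullbacks X]
variable {fS : X ⥤ X'} {fP : X' ⥤ X} (Af : fS ⊣ fP) {iS : X ⥤ Z} {iP : Z ⥤ X} (Ai : iS ⊣ iP)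
  {jS : X' ⥤ E} {jP : E ⥤ X'} (Aj : jS ⊣ jP) {gS : Z ⥤ E} (θ : fS ⋙ jS ≅ iS ⋙ gS)
variable {F' : X'} {G : Z} (α : jS.obj F' ⟶ gS.obj G)

def pMap : fP.obj F' ⟶ fP.obj (jP.obj (gS.obj G)) := fP.map (Aj.homEquiv _ _ α)

def qMap (G : Z) : iP.obj G ⟶ fP.obj (jP.obj (gS.obj G)) :=
  (Af.comp Aj).homEquiv _ _ (θ.hom.app (iP.obj G) ≫ gS.map (Ai.counit.app G))

theorem compat_iff {F : X} (a : fS.obj F ⟶ F') (b : iS.obj F ⟶ G) :
    Af.homEquiv _ _ a ≫ pMap Aj α (fP := fP) = Ai.homEquiv _ _ b ≫ qMap Af Ai Aj θ G ↔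
      jS.map a ≫ α = θ.hom.app F ≫ gS.map b := by
  have h1 : Af.homEquiv _ _ a ≫ pMap Aj α (fP := fP) = (Af.comp Aj).homEquiv _ _ (jS.map a ≫ α) := by
    rw [Adjunction.comp_homEquiv, pMap, ← Adjunction.homEquiv_naturality_right]
    simp only [Equiv.trans_apply]
    rw [← Adjunction.homEquiv_naturality_left]
  have h2 : Ai.homEquiv _ _ b ≫ qMap Af Ai Aj θ G = (Af.comp Aj).homEquiv _ _ (θ.hom.app F ≫ gS.map b) := by
    rw [qMap, ← Adjunction.homEquiv_naturality_left, θ.hom.naturality_assoc]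
    congr 2
    rw [Functor.comp_map, ← Functor.map_comp]
    congr 1
    exact (Ai.homEquiv_counit _ _ _).symm.trans ((Ai.homEquiv _ _).symm_apply_apply b)
  rw [h1, h2]
  exact ((Af.comp Aj).homEquiv _ _).apply_eq_iff_eq

abbrev R : X := pullback (pMap Aj α (fP := fP)) (qMap Af Ai Aj θ G)

def aR : fS.obj (R Af Ai Aj θ α) ⟶ F' := (Af.homEquiv _ _).symm (pullback.fst _ _)

def bR : iS.obj (R Af Ai Aj θ α) ⟶ G := (Ai.homEquiv _ _).symm (pullback.snd _ _)

theorem compat_R : jS.map (aR Af Ai Aj θ α) ≫ α = θ.hom.app _ ≫ gS.map (bR Af Ai Aj θ α) := by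
  refine (compat_iff Af Ai Aj θ α _ _).1 ?_
  simp only [aR, bR, Equiv.apply_symm_apply]
  exact pullback.condition

theorem isIso_bR [IsIso α] [PreservesLimitsOfShape WalkingCospan iS] [IsIso Ai.counit] [IsIso Aj.counit]
    {gP : E ⥤ Z} (bc : fP ⋙ iS ≅ jS ⋙ gP) : IsIso (bR Af Ai Aj θ α) := by
  haveI : IsIso (jS.map (Aj.homEquiv _ _ α)) := by
    have h := (Aj.homEquiv_counit (g := Aj.homEquiv _ _ α)).symm
    rw [Equiv.symm_apply_apply] at h
    haveI : IsIso (jS.map (Aj.homEquiv _ _ α) ≫ Aj.counit.app (gS.obj G)) := by rw [h]; infer_instance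
    exact IsIso.of_isIso_comp_right _ (Aj.counit.app (gS.obj G))
  haveI : IsIso (iS.map (pMap Aj α (fP := fP))) :=
    (NatIso.isIso_map_iff bc (Aj.homEquiv _ _ α)).2
      (inferInstanceAs (IsIso (gP.map (jS.map (Aj.homEquiv _ _ α)))))
  haveI : IsIso (iS.map (pullback.snd (pMap Aj α (fP := fP)) (qMap Af Ai Aj θ G))) :=
    ((IsPullback.of_hasPullback (pMap Aj α (fP := fP)) (qMap Af Ai Aj θ G)).map iS).isIso_snd_of_isIso
  rw [bR, Adjunction.homEquiv_counit]
  infer_instance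

variable {U : Type w₅} {V : Type w₆} [Category.{v} U] [Category.{v} V]
variable {uS : X ⥤ U} {vS : X' ⥤ V} {vP : V ⥤ X'} (Av : vS ⊣ vP) {pS : U ⥤ V} {pP : V ⥤ U}

theorem isIso_aR [IsIso α] [IsIso (bR Af Ai Aj θ α)] (w : fS ⋙ vS ≅ uS ⋙ pS) (bc : fP ⋙ uS ≅ vS ⋙ pP)
    [PreservesLimitsOfShape WalkingCospan uS] [IsIso Av.counit] [IsIso (Af.comp Av).counit]
    (hq : IsIso (uS.map (qMap Af Ai Aj θ G)))
    (hcons : ∀ ⦃A B : X'⦄ (a : A ⟶ B), IsIso (jS.map a) → IsIso (vS.map a) → IsIso a) :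
    IsIso (aR Af Ai Aj θ α) := by
  haveI := hq
  refine hcons _ ?_ ?_
  · haveI : IsIso (jS.map (aR Af Ai Aj θ α) ≫ α) := by rw [compat_R]; infer_instance
    exact IsIso.of_isIso_comp_right _ α
  haveI : IsIso (uS.map (pullback.fst (pMap Aj α (fP := fP)) (qMap Af Ai Aj θ G))) :=
    ((IsPullback.of_hasPullback (pMap Aj α (fP := fP)) (qMap Af Ai Aj θ G)).map uS).isIso_fst_of_isIso
  haveI : IsIso (vS.map (fS.map (pullback.fst (pMap Aj α (fP := fP)) (qMap Af Ai Aj θ G)))) :=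
    (NatIso.isIso_map_iff w _).2
      (inferInstanceAs (IsIso (pS.map (uS.map (pullback.fst (pMap Aj α (fP := fP)) (qMap Af Ai Aj θ G))))))
  haveI : IsIso (vS.map (Af.counit.app F')) := by
    let η := Av.unit.app F'
    haveI : IsIso (vS.map η) := by
      haveI : IsIso (𝟙 (vS.obj F')) := IsIso.id _
      exact IsIso.of_isIso_fac_right (Av.left_triangle_components F')
    haveI : IsIso (uS.map (fP.map η)) :=
      (NatIso.isIso_map_iff bc η).2 (inferInstanceAs (IsIso (pP.map (vS.map η))))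
    haveI : IsIso (vS.map (fS.map (fP.map η))) :=
      (NatIso.isIso_map_iff w _).2 (inferInstanceAs (IsIso (pS.map (uS.map (fP.map η)))))
    let H := vS.obj F'
    have hA : (Af.comp Av).counit.app H = vS.map (Af.counit.app (vP.obj H)) ≫ Av.counit.app H :=
      Adjunction.comp_counit_app _ _ _
    haveI : IsIso (vS.map (Af.counit.app (vP.obj H)) ≫ Av.counit.app H) := hA ▸ inferInstance
    haveI : IsIso (vS.map (Af.counit.app (vP.obj H))) :=
      IsIso.of_isIso_comp_right _ (Av.counit.app H)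
    have hn : vS.map (fS.map (fP.map η)) ≫ vS.map (Af.counit.app (vP.obj H)) =
        vS.map (Af.counit.app F') ≫ vS.map η := by
      rw [← Functor.map_comp, ← Functor.map_comp]
      exact congrArg vS.map (Af.counit.naturality η)
    haveI : IsIso (vS.map (Af.counit.app F') ≫ vS.map η) := hn ▸ inferInstance
    exact IsIso.of_isIso_comp_right _ (vS.map η)
  rw [aR, Adjunction.homEquiv_counit, Functor.map_comp]
  infer_instance

theorem main (hR : ∀ (F' : X') (G : Z) (α : jS.obj F' ⟶ gS.obj G), IsIso α →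
      IsIso (aR Af Ai Aj θ α) ∧ IsIso (bR Af Ai Aj θ α))
    (hiso : ∀ ⦃A B : X⦄ (a : A ⟶ B), IsIso (fS.map a) → IsIso (iS.map a) → IsIso a)
    (hext : ∀ ⦃A B : X⦄ (a a' : A ⟶ B), fS.map a = fS.map a' → iS.map a = iS.map a' → a = a') :
    (∀ (F₁ F₂ : X) (a : fS.obj F₁ ⟶ fS.obj F₂) (b : iS.obj F₁ ⟶ iS.obj F₂),
        jS.map a ≫ θ.hom.app F₂ = θ.hom.app F₁ ≫ gS.map b →
        ∃! φ : F₁ ⟶ F₂, fS.map φ = a ∧ iS.map φ = b) ∧
    (∀ (F' : X') (G : Z) (α : jS.obj F' ≅ gS.obj G),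
        ∃ (F : X) (β : fS.obj F ≅ F') (γ : iS.obj F ≅ G),
          jS.map β.hom ≫ α.hom = θ.hom.app F ≫ gS.map γ.hom) := by
  refine ⟨fun F₁ F₂ a b hab => ?_, fun F' G α => ?_⟩
  · let α : jS.obj (fS.obj F₂) ⟶ gS.obj (iS.obj F₂) := θ.hom.app F₂
    have hid := (compat_iff Af Ai Aj θ α (F := F₂) (𝟙 _) (𝟙 _)).2
      (by simp only [CategoryTheory.Functor.map_id]; exact (Category.id_comp _).trans (Category.comp_id _).symm)
    let m := pullback.lift _ _ hid
    let n := pullback.lift _ _ ((compat_iff Af Ai Aj θ α a b).2 hab)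
    have hm₁ : fS.map m ≫ aR Af Ai Aj θ α = 𝟙 _ := by
      rw [aR, ← Adjunction.homEquiv_naturality_left_symm, pullback.lift_fst, Equiv.symm_apply_apply]
    have hm₂ : iS.map m ≫ bR Af Ai Aj θ α = 𝟙 _ := by
      rw [bR, ← Adjunction.homEquiv_naturality_left_symm, pullback.lift_snd, Equiv.symm_apply_apply]
    have hn₁ : fS.map n ≫ aR Af Ai Aj θ α = a := by
      rw [aR, ← Adjunction.homEquiv_naturality_left_symm, pullback.lift_fst, Equiv.symm_apply_apply]
    have hn₂ : iS.map n ≫ bR Af Ai Aj θ α = b := by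
      rw [bR, ← Adjunction.homEquiv_naturality_left_symm, pullback.lift_snd, Equiv.symm_apply_apply]
    obtain ⟨_, _⟩ := hR _ _ α (inferInstanceAs (IsIso (θ.hom.app F₂)))
    haveI : IsIso (fS.map m) := by
      haveI : IsIso (𝟙 (fS.obj F₂)) := IsIso.id _
      exact IsIso.of_isIso_fac_right hm₁
    haveI : IsIso (iS.map m) := by
      haveI : IsIso (𝟙 (iS.obj F₂)) := IsIso.id _
      exact IsIso.of_isIso_fac_right hm₂
    haveI : IsIso m := hiso m inferInstance inferInstance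
    refine ⟨n ≫ inv m, ⟨?_, ?_⟩, fun φ hφ => hext _ _ ?_ ?_⟩
    · rw [Functor.map_comp, Functor.map_inv, IsIso.comp_inv_eq, ← cancel_mono (aR Af Ai Aj θ α), hn₁,
        Category.assoc, hm₁, Category.comp_id]
    · rw [Functor.map_comp, Functor.map_inv, IsIso.comp_inv_eq, ← cancel_mono (bR Af Ai Aj θ α), hn₂,
        Category.assoc, hm₂, Category.comp_id]
    · rw [hφ.1, Functor.map_comp, Functor.map_inv, eq_comm, IsIso.comp_inv_eq,
        ← cancel_mono (aR Af Ai Aj θ α), hn₁, Category.assoc, hm₁, Category.comp_id]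
    · rw [hφ.2, Functor.map_comp, Functor.map_inv, eq_comm, IsIso.comp_inv_eq,
        ← cancel_mono (bR Af Ai Aj θ α), hn₂, Category.assoc, hm₂, Category.comp_id]
  · obtain ⟨_, _⟩ := hR F' G α.hom inferInstance
    exact ⟨R Af Ai Aj θ α.hom, asIso (aR Af Ai Aj θ α.hom), asIso (bR Af Ai Aj θ α.hom),
      compat_R Af Ai Aj θ α.hom⟩

end GrothLib.ModSq18
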