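import Groth.Prelude.Def_SGA4b
import Groth.Agent.Lib.EtSite.ImmersionSets
import Groth.Agent.Lib.EtSite.SetPoints
import Groth.Agent.Lib.PropH0.PropBC
import Groth.Agent.Lib.ModSq18.Abs

/-!
# Sheaves of sets on a modification square
-/

set_option autoImplicit false
set_option linter.all false

universe u

open CategoryTheory CategoryTheory.Limits AlgebraicGeometry Opposite
open GrothLib.EtSite


noncomputable section

namespace GrothLib.ModSq18

section Gen

variable {A B : Scheme.{u}}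

theorem isIso_of_isEmpty [IsEmpty A] {F G : EtDesc.Sh A} (a : F ⟶ G) : IsIso a :=
  isIso_of_stalksSh a fun x => isEmptyElim x

/-- Stalks see isomorphisms of inverse images. -/
theorem bijective_stalk_of_pull (v : B ⟶ A) {F G : EtDesc.Sh A} (a : F ⟶ G) (y : B)
    [IsIso ((EtDesc.pullSh v).map a)] :
    Function.Bijective ((stalkSh (gpt y ≫ v)).map a) := by
  rw [← isIso_iff_bijective]
  exact (NatIso.isIso_map_iff (pullStalkShIso (gpt y) v) a).1
    (inferInstanceAs (IsIso ((stalkSh (gpt y)).map ((EtDesc.pullSh v).map a))))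

theorem isIso_of_cover {B' : Scheme.{u}} (v : B ⟶ A) (v' : B' ⟶ A)
    (hcov : ∀ x, x ∈ Set.range v.base ∨ x ∈ Set.range v'.base) {F G : EtDesc.Sh A} (a : F ⟶ G)
    [IsIso ((EtDesc.pullSh v).map a)] [IsIso ((EtDesc.pullSh v').map a)] : IsIso a := by
  refine isIso_of_stalksSh a fun x => ?_
  rcases hcov x with ⟨y, rfl⟩ | ⟨y, rfl⟩
  · exact ⟨_, _, inferInstance, gpt y ≫ v, by rw [Scheme.Hom.comp_apply, gpt_default],
      bijective_stalk_of_pull v a y⟩
  · exact ⟨_, _, inferInstance, gpt y ≫ v', by rw [Scheme.Hom.comp_apply, gpt_default],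
      bijective_stalk_of_pull v' a y⟩

theorem hom_ext_of_cover {B' : Scheme.{u}} (v : B ⟶ A) (v' : B' ⟶ A)
    (hcov : ∀ x, x ∈ Set.range v.base ∨ x ∈ Set.range v'.base) {F G : EtDesc.Sh A} (a a' : F ⟶ G)
    (h : (EtDesc.pullSh v).map a = (EtDesc.pullSh v).map a')
    (h' : (EtDesc.pullSh v').map a = (EtDesc.pullSh v').map a') : a = a' := by
  refine hom_ext_of_stalksSh a a' fun x => ?_
  rcases hcov x with ⟨y, rfl⟩ | ⟨y, rfl⟩
  · refine ⟨_, _, inferInstance, gpt y ≫ v, by rw [Scheme.Hom.comp_apply, gpt_default], ?_⟩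
    have hn := fun c : F ⟶ G => NatIso.naturality_1 (pullStalkShIso (gpt y) v) c
    rw [← hn a, ← hn a']
    simp [h]
  · refine ⟨_, _, inferInstance, gpt y ≫ v', by rw [Scheme.Hom.comp_apply, gpt_default], ?_⟩
    have hn := fun c : F ⟶ G => NatIso.naturality_1 (pullStalkShIso (gpt y) v') c
    rw [← hn a, ← hn a']
    simp [h']


theorem preservesLimitsOfShape_pullSh (v : B ⟶ A) : PreservesLimitsOfShape WalkingCospan (EtDesc.pullSh v) := by
  refine ⟨fun {K} => ?_⟩
  haveI : IsIso (limit.post K (EtDesc.pullSh v)) := isIso_of_stalksSh _ fun x => by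
    refine ⟨_, _, inferInstance, gpt x, gpt_default x, ?_⟩
    rw [← isIso_iff_bijective]
    haveI : PreservesLimitsOfShape WalkingCospan (EtDesc.pullSh v ⋙ stalkSh (gpt x)) :=
      preservesLimitsOfShape_of_natIso (pullStalkShIso (gpt x) v).symm
    haveI : IsIso (limit.post K (EtDesc.pullSh v ⋙ stalkSh (gpt x))) :=
      inferInstanceAs (IsIso (preservesLimitIso (EtDesc.pullSh v ⋙ stalkSh (gpt x)) K).hom)
    haveI : IsIso ((stalkSh (gpt x)).map (limit.post K (EtDesc.pullSh v)) ≫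
        limit.post (K ⋙ EtDesc.pullSh v) (stalkSh (gpt x))) := by
      rw [limit.post_post]; infer_instance
    haveI : IsIso (limit.post (K ⋙ EtDesc.pullSh v) (stalkSh (gpt x))) :=
      inferInstanceAs (IsIso (preservesLimitIso (stalkSh (gpt x)) (K ⋙ EtDesc.pullSh v)).hom)
    exact IsIso.of_isIso_comp_right _ (limit.post (K ⋙ EtDesc.pullSh v) (stalkSh (gpt x)))
  exact preservesLimit_of_isIso_post (EtDesc.pullSh v) K

theorem exists_bc {T S C Y : Scheme.{u}} (g : T ⟶ S) [IsProper g] (f : C ⟶ S) (h : Y ⟶ C) (e : Y ⟶ T)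
    (hsq : IsPullback e h g f) :
    Nonempty (EtDesc.pushSh g ⋙ EtDesc.pullSh f ≅ EtDesc.pullSh e ⋙ EtDesc.pushSh h) := by
  let bc := bcTrans (EtDesc.adjSh f) (EtDesc.adjSh e) (EtDesc.pushCompSh g e) (EtBC.pushCongrSh hsq.w)
    (EtDesc.pushCompSh f h)
  haveI : ∀ G, IsIso (bc.app G) := fun G => GrothLib.PropH0.isIso_baseChange0Sh_of_proper g f h e hsq G
  haveI : IsIso bc := NatIso.isIso_of_isIso_app bc
  exact ⟨asIso bc⟩

theorem isIso_counit_of_immersion (w : A ⟶ B) [IsImmersion w] : IsIso (EtDesc.adjSh w).counit :=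
  haveI : ∀ G, IsIso ((EtDesc.adjSh w).counit.app G) := fun G => isIso_counitSh w G
  NatIso.isIso_of_isIso_app _

/-- The composite of the two inverse images has invertible counit along an immersion. -/
theorem isIso_comp_counit {V : Scheme.{u}} (f : A ⟶ B) (v : V ⟶ A) [IsImmersion (v ≫ f)] :
    IsIso ((EtDesc.adjSh f).comp (EtDesc.adjSh v)).counit := by
  haveI := isIso_counit_of_immersion (v ≫ f)
  haveI := (EtDesc.adjSh (v ≫ f)).fullyFaithfulROfIsIsoCounit.full
  haveI := (EtDesc.adjSh (v ≫ f)).fullyFaithfulROfIsIsoCounit.faithful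
  haveI : (EtDesc.pushSh v ⋙ EtDesc.pushSh f).Full := Functor.Full.of_iso (EtDesc.pushCompSh f v).symm
  haveI : (EtDesc.pushSh v ⋙ EtDesc.pushSh f).Faithful := Functor.Faithful.of_iso (EtDesc.pushCompSh f v).symm
  exact ((EtDesc.adjSh f).comp (EtDesc.adjSh v)).counit_isIso_of_R_fully_faithful

end Gen

variable {X X' Z E U : Scheme.{u}} (f : X' ⟶ X) [IsProper f] (i : Z ⟶ X) [IsClosedImmersion i]
  (u : U ⟶ X) [IsOpenImmersion u] (j : E ⟶ X') (g : E ⟶ Z) (c : IsPullback j g f i)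

variable (θ : EtDesc.pullSh f ⋙ EtDesc.pullSh j ≅ EtDesc.pullSh i ⋙ EtDesc.pullSh g)

include c in
theorem isIso_pull_qMap (hU : Set.range u = (Set.range i)ᶜ) (G : EtDesc.Sh Z) :
    IsIso ((EtDesc.pullSh u).map
      (qMap (EtDesc.adjSh f) (EtDesc.adjSh i) (EtDesc.adjSh j) θ G)) := by
  refine isIso_of_stalksSh _ fun x => ⟨_, _, inferInstance, gpt x, gpt_default x, ?_⟩
  have hout : (gpt x ≫ u).base default ∉ Set.range i.base := by
    rw [Scheme.Hom.comp_apply, gpt_default]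
    exact (hU.le ⟨x, rfl⟩ :)
  let e : (EtDesc.pushSh f).obj ((EtDesc.pushSh j).obj ((EtDesc.pullSh g).obj G)) ≅
      (EtDesc.pushSh i).obj ((EtDesc.pushSh g).obj ((EtDesc.pullSh g).obj G)) :=
    (EtDesc.pushCompSh f j).app _ ≪≫ (EtBC.pushCongrSh c.w).app _ ≪≫ ((EtDesc.pushCompSh i g).app _).symm
  obtain ⟨h₁⟩ := stalkSh_push_unique i G (gpt x ≫ u) hout
  obtain ⟨h₂⟩ := stalkSh_push_unique i ((EtDesc.pushSh g).obj ((EtDesc.pullSh g).obj G)) (gpt x ≫ u) hout
  exact bijective_of_unique _ ⟨((pullStalkShIso (gpt x) u).app _).toEquiv.unique⟩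
    ⟨((pullStalkShIso (gpt x) u).app _ ≪≫ (stalkSh (gpt x ≫ u)).mapIso e).toEquiv.unique⟩

include c in
theorem main_sq (hU : Set.range u = (Set.range i)ᶜ) (hf : IsIso (pullback.snd f u)) :
    (∀ (F₁ F₂ : EtDesc.Sh X) (a : (EtDesc.pullSh f).obj F₁ ⟶ (EtDesc.pullSh f).obj F₂)
        (b : (EtDesc.pullSh i).obj F₁ ⟶ (EtDesc.pullSh i).obj F₂),
        (EtDesc.pullSh j).map a ≫ θ.hom.app F₂ =
          θ.hom.app F₁ ≫ (EtDesc.pullSh g).map b →
        ∃! φ : F₁ ⟶ F₂, (EtDesc.pullSh f).map φ = a ∧ (EtDesc.pullSh i).map φ = b) ∧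
    (∀ (F' : EtDesc.Sh X') (G : EtDesc.Sh Z) (α : (EtDesc.pullSh j).obj F' ≅ (EtDesc.pullSh g).obj G),
        ∃ (F : EtDesc.Sh X) (β : (EtDesc.pullSh f).obj F ≅ F') (γ : (EtDesc.pullSh i).obj F ≅ G),
          (EtDesc.pullSh j).map β.hom ≫ α.hom = θ.hom.app F ≫ (EtDesc.pullSh g).map γ.hom) := by
  haveI := hf
  haveI : IsClosedImmersion j := MorphismProperty.of_isPullback c.flip inferInstance
  let v : pullback f u ⟶ X' := pullback.fst f u
  haveI : IsOpenImmersion (v ≫ f) := by rw [pullback.condition]; infer_instance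
  have hX : ∀ x, x ∈ Set.range i.base ∨ x ∈ Set.range u.base := fun x => by
    by_cases hx : x ∈ Set.range i.base
    · exact Or.inl hx
    · refine Or.inr ?_
      rw [show Set.range u.base = (Set.range i)ᶜ from hU]; exact hx
  have hX' : ∀ x, x ∈ Set.range j.base ∨ x ∈ Set.range v.base := fun x => by
    rcases hX (f.base x) with ⟨z, hz⟩ | ⟨w, hw⟩
    · obtain ⟨y, hy, -⟩ := Scheme.exists_preimage_of_isPullback c x z hz.symm
      exact Or.inl ⟨y, hy⟩
    · obtain ⟨y, hy, -⟩ := Scheme.exists_preimage_of_isPullback (IsPullback.of_hasPullback f u) x w hw.symm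
      exact Or.inr ⟨y, hy⟩
  have hcov : ∀ x, x ∈ Set.range f.base ∨ x ∈ Set.range i.base := fun x => by
    rcases hX x with hx | ⟨w, hw⟩
    · exact Or.inr hx
    · refine Or.inl ⟨(inv (pullback.snd f u) ≫ pullback.fst f u).base w, ?_⟩
      rw [← Scheme.Hom.comp_apply, Category.assoc, pullback.condition, IsIso.inv_hom_id_assoc, hw]
  haveI := preservesLimitsOfShape_pullSh i
  haveI := preservesLimitsOfShape_pullSh u
  haveI := isIso_counit_of_immersion i
  haveI := isIso_counit_of_immersion j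
  haveI := isIso_counit_of_immersion v
  haveI := isIso_comp_counit f v
  obtain ⟨bci⟩ := exists_bc f i g j c
  obtain ⟨bcu⟩ := exists_bc f u (pullback.snd f u) v (IsPullback.of_hasPullback f u)
  refine GrothLib.ModSq18.main (EtDesc.adjSh f) (EtDesc.adjSh i) (EtDesc.adjSh j) θ
    (fun F' G α hα => ?_) (fun A B a h h' => isIso_of_cover f i hcov a)
    (fun A B a a' h h' => hom_ext_of_cover f i hcov a a' h h')
  haveI := hα
  haveI := isIso_bR (EtDesc.adjSh f) (EtDesc.adjSh i) (EtDesc.adjSh j) θ α bci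
  refine ⟨isIso_aR (EtDesc.adjSh f) (EtDesc.adjSh i) (EtDesc.adjSh j) θ α (EtDesc.adjSh v)
    ((EtDesc.pullCompSh v f).symm ≪≫ EtDesc.pullCongrSh pullback.condition ≪≫
      EtDesc.pullCompSh (pullback.snd f u) u) bcu (isIso_pull_qMap f i u j g c θ hU G)
    (fun A B a h h' => isIso_of_cover j v hX' a), inferInstance⟩

end GrothLib.ModSq18
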